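import Cfsg.Agent.R2.Spec.X1.TRc.TwF4

/-!
# `²F₄(u)` does not have the spectrum of `³D₄(q)`: the row (helper368, S3478)
-/

set_option autoImplicit false
set_option linter.unusedSectionVars false
set_option linter.unusedVariables false

namespace Cfsg.Agent.R2.Spec.X1.TRc

open Cfsg Cfsg.Lie
open Cfsg.Agent.R2.Spec.X1.TI Cfsg.Agent.R2.Spec.X1.TD Cfsg.Agent.H378.ExcAdj Cfsg.Agent.H378.CycTab
open Cfsg.Agent.H493.PGF4T (fP fM)

/-! ### arithmetic -/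

theorem not_dvd_of_od {u s : ℕ} (hs : s.Prime) (h : od u s = 12) : ¬ s ∣ u := by
  intro h1
  have := Fact.mk hs
  have h2 : ((u : ℕ) : ZMod s) = 0 := (ZMod.natCast_eq_zero_iff _ _).2 h1
  have h3 := pow_orderOf_eq_one ((u : ℕ) : ZMod s)
  have h4 : orderOf ((u : ℕ) : ZMod s) = 12 := h
  rw [h4, h2] at h3
  simp at h3

theorem coprime_rest {n u : ℕ} (hu : 1 ≤ u) (h : ∀ s : ℕ, s.Prime → s ∣ n → od u s = 12) :
    Nat.Coprime n (u ^ 12 * (u - 1) * (u ^ 3 + 1) * (u ^ 4 - 1) * (u ^ 2 + 1)) := by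
  refine Nat.Coprime.symm (Nat.coprime_of_dvd fun s hs h1 h2 => ?_)
  have ho := h s hs h2
  have k1 : ∀ i, s ∣ u ^ i - 1 → 12 ∣ i := fun i hi => by
    have := od_dvd hu hi
    rwa [ho] at this
  have e6 : u ^ 6 - 1 = (u ^ 3 + 1) * (u ^ 3 - 1) := by
    have := Nat.sq_sub_sq (u ^ 3) 1
    rw [← this]
    congr 1
    ring
  have e4 : u ^ 4 - 1 = (u ^ 2 + 1) * (u ^ 2 - 1) := by
    have := Nat.sq_sub_sq (u ^ 2) 1
    rw [← this]
    congr 1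
    ring
  rcases (Nat.Prime.dvd_mul hs).1 h1 with h1 | h1
  · rcases (Nat.Prime.dvd_mul hs).1 h1 with h1 | h1
    · rcases (Nat.Prime.dvd_mul hs).1 h1 with h1 | h1
      · rcases (Nat.Prime.dvd_mul hs).1 h1 with h1 | h1
        · exact not_dvd_of_od hs ho (hs.dvd_of_dvd_pow h1)
        · have := k1 1 (by rwa [pow_one])
          omega
      · have := k1 6 (by rw [e6]; exact h1.mul_right _)
        omega
    · have := k1 4 h1
      omega
  · have := k1 4 (by rw [e4]; exact h1.mul_right _)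
    omega

theorem no_P {q b : ℤ} (hb : 2 ≤ b) (hq : 1 ≤ q) (h : q ^ 4 - q ^ 2 + 1 = fP b) : False := by
  unfold fP at h
  have h1 : (2 * q ^ 2 - 1) ^ 2 = 16 * b ^ 4 + 16 * b ^ 3 + 8 * b ^ 2 + 8 * b + 1 := by linear_combination 4 * h
  have hx : 0 ≤ 2 * q ^ 2 - 1 := by nlinarith
  rcases le_or_gt (2 * q ^ 2 - 1) (4 * b ^ 2 + 2 * b) with h2 | h2
  · have h3 := mul_le_mul h2 h2 hx (by positivity)
    nlinarith
  · have h2' : 4 * b ^ 2 + 2 * b + 1 ≤ 2 * q ^ 2 - 1 := h2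
    have h3 := mul_le_mul h2' h2' (by positivity) hx
    nlinarith

theorem no_M {q b : ℤ} (hb : 2 ≤ b) (hq : 1 ≤ q) (h : q ^ 4 - q ^ 2 + 1 = fM b) : False := by
  unfold fM at h
  have h1 : (2 * q ^ 2 - 1) ^ 2 = 16 * b ^ 4 - 16 * b ^ 3 + 8 * b ^ 2 - 8 * b + 1 := by linear_combination 4 * h
  have hx : 0 ≤ 2 * q ^ 2 - 1 := by nlinarith
  have hy : 0 ≤ 4 * b ^ 2 - 2 * b := by nlinarith
  rcases le_or_gt (2 * q ^ 2 - 1) (4 * b ^ 2 - 2 * b) with h2 | h2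
  · have h3 := mul_le_mul h2 h2 hx hy
    nlinarith
  · have h2' : 4 * b ^ 2 - 2 * b + 1 ≤ 2 * q ^ 2 - 1 := h2
    have h3 := mul_le_mul h2' h2' (by nlinarith) hx
    nlinarith

theorem fP_pos {b : ℤ} (hb : 2 ≤ b) : 0 < fP b := by
  unfold fP; positivity

theorem fM_pos {b : ℤ} (hb : 2 ≤ b) : 0 < fM b := by
  unfold fM
  have h1 : 4 * b ^ 4 - 4 * b ^ 3 + 2 * b ^ 2 - 2 * b + 1 = 4 * b ^ 3 * (b - 1) + 2 * b * (b - 1) + 1 := by ring
  rw [h1]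
  have h2 : 0 ≤ b - 1 := by linarith
  positivity

/-- **The row `²F₄(u)`.** -/
theorem row_2F4 {p q : ℕ} {K : Type*} [Field K] [Fintype K] {m : ℕ} (hm : 1 ≤ m)
    (hF : Fintype.card K = 2 ^ (2 * m + 1)) (h : Sit p q (Lie.twistedF4 K (2 ^ m))) : False := by
  have hfin : Finite ↥(Lie.twistedF4 K (2 ^ m)) := inferInstance
  have hcK : Nat.card K = 2 ^ (2 * m + 1) := by rw [Nat.card_eq_fintype_card, hF]
  set u : ℕ := 2 ^ (2 * m + 1) with hu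
  have hu1 : 1 ≤ u := Nat.one_le_two_pow
  have hq : 2 < q := h.par.hq
  set b : ℤ := 2 ^ m with hb
  have hb2 : 2 ≤ b := by
    have : (2 : ℤ) ^ 1 ≤ 2 ^ m := pow_le_pow_right₀ (by norm_num) hm
    simpa using this
  have hub : (u : ℤ) = 2 * b ^ 2 := by
    rw [hu, hb]; push_cast; rw [← pow_mul]; ring
  -- prime divisors of `n`
  have hod : ∀ s : ℕ, s.Prime → s ∣ R2.Spec.X1.TD.mm q → od u s = 12 := by
    intro s hs hsn
    have h1 := (Cfsg.Agent.H378.TwRowsF.near_2F4 hm hF hs (hsn.trans h.mm_dvd_card)).resolve_left (h.not_near hs hsn)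
    rwa [hcK] at h1
  -- `n` divides `u⁴ - u² + 1`
  obtain ⟨N, hN⟩ : ∃ N : ℕ, (N : ℤ) = fP b * fM b := by
    have : 0 ≤ fP b * fM b := (mul_pos (fP_pos hb2) (fM_pos hb2)).le
    exact ⟨(fP b * fM b).toNat, Int.toNat_of_nonneg this⟩
  have hN' : (N : ℤ) = (u : ℤ) ^ 4 - (u : ℤ) ^ 2 + 1 := by
    rw [hN, hub]; unfold fP fM; ring
  have hsplit : u ^ 6 + 1 = (u ^ 2 + 1) * N := by
    have : ((u ^ 6 + 1 : ℕ) : ℤ) = (((u ^ 2 + 1) * N : ℕ) : ℤ) := by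
      push_cast
      rw [hN']; ring
    exact_mod_cast this
  have hcard : Nat.card ↥(Lie.twistedF4 K (2 ^ m)) =
      (u ^ 12 * (u - 1) * (u ^ 3 + 1) * (u ^ 4 - 1) * (u ^ 2 + 1)) * N := by
    rw [Cfsg.Agent.S1068.result hF, ← hu, hsplit]
    ring
  have hnN : R2.Spec.X1.TD.mm q ∣ N := by
    have h1 := h.mm_dvd_card
    rw [hcard] at h1
    exact (coprime_rest hu1 hod).dvd_of_dvd_mul_left h1
  -- the two factors
  obtain ⟨A, hA⟩ : ∃ A : ℕ, (A : ℤ) = fP b := ⟨(fP b).toNat, Int.toNat_of_nonneg (fP_pos hb2).le⟩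
  obtain ⟨B, hB⟩ : ∃ B : ℕ, (B : ℤ) = fM b := ⟨(fM b).toNat, Int.toNat_of_nonneg (fM_pos hb2).le⟩
  have hAB : N = A * B := by
    have : (N : ℤ) = ((A * B : ℕ) : ℤ) := by rw [hN, ← hA, ← hB]; push_cast; ring
    exact_mod_cast this
  have hAe : ∃ x : ↥(Lie.twistedF4 K (2 ^ m)), orderOf x = A := exists_fP hF (by rw [hA])
  have hBe : ∃ x : ↥(Lie.twistedF4 K (2 ^ m)), orderOf x = B := exists_fM hF (by rw [hB])
  have hcast := mm_cast (q := q) hq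
  have hq1 : (1 : ℤ) ≤ (q : ℤ) := by exact_mod_cast (by omega : 1 ≤ q)
  have hneA : R2.Spec.X1.TD.mm q ≠ A := fun e => no_P hb2 hq1 (by rw [← hcast, e, hA])
  have hneB : R2.Spec.X1.TD.mm q ≠ B := fun e => no_M hb2 hq1 (by rw [← hcast, e, hB])
  -- a prime dividing `n` and `A`
  have hdA : A ∣ R2.Spec.X1.TD.mm q := by
    by_contra hA'
    apply hneB
    have hco : Nat.Coprime (R2.Spec.X1.TD.mm q) A := h.coprime_of fun s hs hsn hsA =>
      hA' (h.dvd_mm hAe hs hsA hsn)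
    have h1 : R2.Spec.X1.TD.mm q ∣ B := by
      rw [hAB] at hnN
      exact hco.dvd_of_dvd_mul_left hnN
    refine Nat.dvd_antisymm h1 ?_
    obtain ⟨s, hs, hsn, -, -⟩ := h.exists_prime
    exact h.dvd_mm hBe hs (hsn.trans h1) hsn
  have hdB : B ∣ R2.Spec.X1.TD.mm q := by
    by_contra hB'
    apply hneA
    have hco : Nat.Coprime (R2.Spec.X1.TD.mm q) B := h.coprime_of fun s hs hsn hsB =>
      hB' (h.dvd_mm hBe hs hsB hsn)
    have h1 : R2.Spec.X1.TD.mm q ∣ A := by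
      rw [hAB] at hnN
      exact hco.dvd_of_dvd_mul_right hnN
    exact Nat.dvd_antisymm h1 hdA
  have hcop : Nat.Coprime A B := by
    rw [← Nat.isCoprime_iff_coprime, hA, hB]
    exact ⟨1 - (2 * b ^ 4 + 2 * b ^ 3 + b ^ 2 + b) * (1 - b), -(2 * b ^ 4 + 2 * b ^ 3 + b ^ 2 + b) * (1 + b), by
      unfold fP fM; ring⟩
  have heq : R2.Spec.X1.TD.mm q = N := Nat.dvd_antisymm hnN (by rw [hAB]; exact hcop.mul_dvd_of_dvd_of_dvd hdA hdB)
  have huq : u ^ 2 = q ^ 2 := by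
    refine eq_sub h.par ?_ (Nat.one_le_pow _ _ hu1)
    have h1 : ((R2.Spec.X1.TD.mm q + u ^ 2 : ℕ) : ℤ) = (((u ^ 2) ^ 2 + 1 : ℕ) : ℤ) := by
      rw [heq]; push_cast; rw [hN']; ring
    exact_mod_cast h1
  obtain ⟨t, ht, -, h3, h4⟩ := h.sq
  apply h4
  rw [hcard, huq]
  exact (h3.mul_left _).mul_right _

end Cfsg.Agent.R2.Spec.X1.TRc
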